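import Groth.Agent.Lib.FunFld.QuadExt
import Groth.Agent.Lib.FunFld.Conseq
import Groth.Agent.Lib.FunFld.RR

/-!
# The canonical class of a quadratic extension comes from below
-/

set_option autoImplicit false
set_option maxHeartbeats 1600000
set_option linter.style.haveILetI false
set_option linter.unusedSectionVars false

namespace GrothLib.DoubleCan28

open _root_.FunFld GrothLib.FunFld WithZero

universe u

variable {k L K : Type u} [Field k] [IsAlgClosed k] [Field L] [Field K] [Algebra k L] [Algebra L K] [Algebra k K]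
  [IsScalarTower k L K] [FiniteDimensional L K]

theorem exists_sqrt_gen (d : Module.finrank L K = 2) (h2 : (2 : k) ≠ 0) :
    ∃ (y : K) (h : L), h ≠ 0 ∧ y ^ 2 = algebraMap L K h ∧ IsQuad y 0 (-h) := by
  have h2' : (2 : L) ≠ 0 := by
    rw [show (2 : L) = algebraMap k L 2 by rw [map_ofNat]]
    exact (_root_.map_ne_zero _).2 h2
  obtain ⟨z, hz⟩ : ∃ z : K, z ∉ Set.range (algebraMap L K) := by
    by_contra hall
    push Not at hall
    have hb : Function.Bijective (Algebra.linearMap L K) := ⟨(algebraMap L K).injective, hall⟩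
    rw [← (LinearEquiv.ofBijective _ hb).finrank_eq, Module.finrank_self] at d
    omega
  have hli : LinearIndependent L ![(1 : K), z] := by
    refine (LinearIndependent.pair_iff' one_ne_zero).2 fun a ha => hz ⟨a, ?_⟩
    rwa [Algebra.smul_def, mul_one] at ha
  have hmem : z ^ 2 ∈ Submodule.span L (Set.range ![(1 : K), z]) := by
    rw [hli.span_eq_top_of_card_eq_finrank (by rw [Fintype.card_fin, d])]
    exact Submodule.mem_top
  obtain ⟨c, hc⟩ := (Submodule.mem_span_range_iff_exists_fun L).1 hmem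
  rw [Fin.sum_univ_two] at hc
  simp only [Matrix.cons_val_zero, Matrix.cons_val_one, Algebra.smul_def, mul_one] at hc
  set y := z - algebraMap L K (c 1 / 2) with hy
  set h := c 0 + (c 1 / 2) ^ 2 with hh
  have hsq : y ^ 2 = algebraMap L K h := by
    have e1 : algebraMap L K (c 1) = 2 * algebraMap L K (c 1 / 2) := by
      rw [← map_ofNat (algebraMap L K) 2, ← map_mul, mul_div_cancel₀ _ h2']
    rw [hy, hh, map_add, map_pow, sub_sq, ← hc, e1]
    ring
  have hynot : y ∉ Set.range (algebraMap L K) := by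
    rintro ⟨a, ha⟩
    exact hz ⟨a + c 1 / 2, by rw [map_add, ha, hy, sub_add_cancel]⟩
  refine ⟨y, h, fun h0 => hynot ⟨0, ?_⟩, hsq, ⟨d, hynot, by rw [hsq, map_zero, zero_mul, add_zero, map_neg, add_neg_cancel]⟩⟩
  rw [h0, map_zero] at hsq
  rw [map_zero, pow_eq_zero_iff two_ne_zero] at *
  exact hsq.symm

/-- The splitting of a quadratic extension along `1, y`. -/
theorem exists_data (hK : IsFunctionField k K) (hL : IsFunctionField k L)
    (d : Module.finrank L K = 2) (h2 : (2 : k) ≠ 0) :
    ∃ (y : K) (Δ : Divisor k L), y ∉ Set.range (algebraMap L K) ∧ ell Δ = 0 ∧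
      (∀ a b a' b' : L, algebraMap L K a + algebraMap L K b * y = algebraMap L K a' + algebraMap L K b' * y →
        a = a' ∧ b = b') ∧
      (∀ z : K, ∃ a b : L, z = algebraMap L K a + algebraMap L K b * y) ∧
      (∀ (P₀ : Place k L) (a b : L) (n : ℤ),
        (∀ (P : Place k K) (e : ℕ), IsOverWith P P₀ e →
            val P (algebraMap L K a + algebraMap L K b * y) ≤ exp ((e : ℤ) * n)) ↔
          val P₀ a ≤ exp n ∧ val P₀ b ≤ exp (n + Δ P₀)) ∧
      ∀ C : Divisor k L, IsCanonical k L C → IsCanonical k K (conorm K (C - Δ)) := by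
  classical
  have hfgL : IsFG k L := hL.1
  have hfgK : IsFG k K := hK.1
  obtain ⟨y, h, hh0, hsq, hq⟩ := exists_sqrt_gen (k := k) d h2
  have hy0 : y ≠ 0 := fun e => hq.not_mem ⟨0, by rw [e, map_zero]⟩
  let Δ : Divisor k L := (_root_.FunFld.div k h).mapRange (fun n : ℤ => n / 2) (by simp)
  have hΔ : ∀ P, Δ P = P.ord h / 2 := fun P => by
    simp only [Δ, Finsupp.mapRange_apply, hfgL.div_apply]
  -- the splitting at every place
  have hsplit : ∀ (P₀ : Place k L) (a b : L) (n : ℤ),
      (∀ (P : Place k K) (e : ℕ), IsOverWith P P₀ e →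
          val P (algebraMap L K a + algebraMap L K b * y) ≤ exp ((e : ℤ) * n)) ↔
        val P₀ a ≤ exp n ∧ val P₀ b ≤ exp (n + Δ P₀) := by
    intro P₀ a b n
    rw [hΔ]
    rcases Int.even_or_odd (P₀.ord h) with he | ho
    · obtain ⟨s, hs⟩ := he
      have hv : val P₀ h = exp (2 * (-s)) := by rw [val_eq P₀ hh0, hs]; congr 1; ring
      have hfour : val P₀ (4 : L) = 1 := by
        rw [show (4 : L) = algebraMap k L 4 by rw [map_ofNat]]
        refine val_const P₀ ?_
        rw [show (4 : k) = 2 * 2 by norm_num]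
        exact mul_ne_zero h2 h2
      have h4 := (hq.bound_iff_exp hfgL P₀ (m := -s) (by simp) (by rw [Valuation.map_neg, hv])
        (by rw [show (0 : L) ^ 2 - 4 * -h = 4 * h by ring, map_mul, hfour, one_mul, hv]) a b n).1
      rw [h4, show n - -s = n + P₀.ord h / 2 by omega]
    · exact (hq.odd_iff hfgL P₀ ho (fun P e he => by
        have h1 := congrArg P.ord hsq
        rw [ord_pow, ord_of_isOverWith he] at h1
        exact_mod_cast h1) a b n).2.2
  have hmem : ∀ (D : Divisor k L) (a b : L),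
      algebraMap L K a + algebraMap L K b * y ∈ _root_.FunFld.L (conorm K D) ↔
        a ∈ _root_.FunFld.L D ∧ b ∈ _root_.FunFld.L (D + Δ) := by
    intro D a b
    refine ⟨fun hz => ?_, fun hab P => ?_⟩
    · have key : ∀ P₀, val P₀ a ≤ exp (D P₀) ∧ val P₀ b ≤ exp (D P₀ + Δ P₀) := fun P₀ =>
        (hsplit P₀ a b _).mp fun P e he => by
          have := hz P
          rwa [conorm_apply hfgL he] at this
      exact ⟨fun P₀ => (key P₀).1, fun P₀ => by rw [Finsupp.add_apply]; exact (key P₀).2⟩
    · obtain ⟨P₀, e, -, he⟩ := exists_isOverWith (K := L) P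
      rw [conorm_apply hfgL he]
      refine (hsplit P₀ a b (D P₀)).mpr ⟨hab.1 P₀, ?_⟩ P e he
      have := hab.2 P₀
      rwa [Finsupp.add_apply] at this
  have hell : ∀ D : Divisor k L, ell (conorm K D) = ell D + ell (D + Δ) := by
    intro D
    haveI := IsFG.finite_L hfgL D
    haveI := IsFG.finite_L hfgL (D + Δ)
    let f : (_root_.FunFld.L D × _root_.FunFld.L (D + Δ)) →ₗ[k] _root_.FunFld.L (conorm K D) :=
      LinearMap.codRestrict _
        (((IsScalarTower.toAlgHom k L K).toLinearMap.comp (_root_.FunFld.L D).subtype).coprod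
          ((LinearMap.mulRight k y).comp ((IsScalarTower.toAlgHom k L K).toLinearMap.comp (_root_.FunFld.L (D + Δ)).subtype)))
        fun p => (hmem D p.1.1 p.2.1).mpr ⟨p.1.2, p.2.2⟩
    have hf : Function.Bijective f := by
      refine ⟨fun p q hpq => ?_, fun z => ?_⟩
      · have := hq.coeff_unique (congrArg Subtype.val hpq)
        exact Prod.ext (Subtype.ext this.1) (Subtype.ext this.2)
      · obtain ⟨a, b, hab⟩ := hq.exists_coeff (z : K)
        obtain ⟨ha, hb⟩ := (hmem D a b).mp (hab ▸ z.2)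
        exact ⟨(⟨a, ha⟩, ⟨b, hb⟩), Subtype.ext hab.symm⟩
    rw [ell, ell, ell, ← (LinearEquiv.ofBijective f hf).finrank_eq, Module.finrank_prod]
  -- no global functions in the odd part
  have hΔ0 : ell Δ = 0 := by
    by_contra hne
    haveI := IsFG.finite_L hfgL Δ
    obtain ⟨b, hb, hb0⟩ := Submodule.exists_mem_ne_zero_of_ne_bot (p := _root_.FunFld.L Δ) (fun hbot => hne (by
      rw [ell, hbot, finrank_bot]))
    have h3 := (hmem 0 0 b).mpr ⟨zero_mem _, by rwa [zero_add]⟩
    rw [conorm_zero, map_zero, zero_add, L_zero_eq_one hK] at h3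
    obtain ⟨c, hc⟩ := Submodule.mem_one.mp h3
    refine hq.not_mem ⟨algebraMap k L c / b, ?_⟩
    rw [map_div₀, ← IsScalarTower.algebraMap_apply, div_eq_iff ((_root_.map_ne_zero _).2 hb0), hc, mul_comm]
  obtain ⟨P⟩ := IsFG.exists_place hfgL
  set N : ℤ := 2 * (genus k L : ℤ) + 2 * genus k K + |Δ.deg|
  have hN : _root_.FunFld.Divisor.deg (Finsupp.single P N : Divisor k L) = N := by
    rw [deg_single, IsFG.deg_eq_one hfgL]; simp
  have habs := abs_nonneg Δ.deg
  have hle := neg_abs_le Δ.deg
  have e1 := ell_eq_of_deg_ge hL (D := Finsupp.single P N) (by rw [hN]; omega)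
  have e2 := ell_eq_of_deg_ge hL (D := Finsupp.single P N + Δ) (by rw [deg_add, hN]; omega)
  have e3 := ell_eq_of_deg_ge hK (D := conorm K (Finsupp.single P N)) (by rw [deg_conorm hfgL, d, hN]; push_cast; omega)
  rw [hell] at e3
  rw [deg_add, hN] at e2
  rw [hN] at e1
  rw [deg_conorm hfgL, d, hN] at e3
  push_cast at e3
  have hgen : (genus k K : ℤ) = 2 * genus k L - 1 - Δ.deg := by omega
  refine ⟨y, Δ, hq.not_mem, hΔ0, fun a b a' b' e => hq.coeff_unique e,
    fun z => by obtain ⟨a, b, e⟩ := hq.exists_coeff z; exact ⟨a, b, e⟩, hsplit, fun C hC => ?_⟩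
  obtain ⟨hCl, hCd⟩ := ell_canonical hL hC
  refine isCanonical_of_ell_deg hK ?_ ?_
  · have hrr := riemann_roch' hL hC Δ
    rw [hell, sub_add_cancel, hCl]
    rw [hΔ0] at hrr
    omega
  · rw [deg_conorm hfgL, d, deg_sub, hCd]; push_cast; omega

theorem exists_canonical_conorm (hK : IsFunctionField k K) (hL : IsFunctionField k L)
    (d : Module.finrank L K = 2) (h2 : (2 : k) ≠ 0) :
    ∃ D : Divisor k L, IsCanonical k K (conorm K D) := by
  obtain ⟨y, Δ, -, -, -, -, -, hcan⟩ := exists_data hK hL d h2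
  obtain ⟨C, hC⟩ := exists_isCanonical hL
  exact ⟨C - Δ, hcan C hC⟩

end GrothLib.DoubleCan28
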