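import Groth.Agent.Lib.DoubleCan28.Field
import Groth.Agent.Lib.KummerCov28.Pull

/-!
# The direct image of the structure sheaf of a double cover
-/

set_option autoImplicit false
set_option maxHeartbeats 1600000
set_option linter.style.haveILetI false
set_option backward.isDefEq.respectTransparency false

universe u

open CategoryTheory CategoryTheory.Limits AlgebraicGeometry TopologicalSpace WithZero
open GrothLib GrothLib.CurveRR GrothLib.CurveMult
open _root_.FunFld (Divisor)

noncomputable section

namespace GrothLib.DoubleCan28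

variable (k : Type u) [Field k] {X Y : Scheme.{u}} [IsIntegral X] [IsIntegral Y] [RegCurve X] [RegCurve Y]
  [X.Over (Spec (CommRingCat.of k))] [Y.Over (Spec (CommRingCat.of k))]
  [IsProper (X ↘ Spec (CommRingCat.of k))] [IsProper (Y ↘ Spec (CommRingCat.of k))]
  {f : X ⟶ Y} [IsFinite f] (e : f (genericPoint X) = genericPoint Y)

/-- Multiplication by `w` from `O(D)` into the direct image of `O`. -/
def mulPush (D : Divisor k Y.functionField) (w : X.functionField)
    (h : ∀ (x : CP X) (g : Y.functionField),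
      (place k (⟨f x.1, Hurwitz.ne_genericPoint x.2⟩ : CP Y)).1 g ≤
          exp (D (place k (⟨f x.1, Hurwitz.ne_genericPoint x.2⟩ : CP Y))) →
        (place k x).1 (Hurwitz.ψ e g * w) ≤ exp ((0 : Divisor k X.functionField) (place k x))) :
    oD k D ⟶ (Scheme.Modules.pushforward f).obj (oD k (0 : Divisor k X.functionField)) :=
  ⟨PresheafOfModules.homMk
    { app := fun V => AddCommGrpCat.ofHom
        { toFun := fun s => (oDData k (0 : Divisor k X.functionField)).lift
            (U := f ⁻¹ᵁ V.unop) (fun hV => Hurwitz.ψ e (oval k (V := V.unop) s (e ▸ hV.down)) * w) fun x hx =>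
              h x _ (oval_bound (V := V.unop) s ⟨f x.1, Hurwitz.ne_genericPoint x.2⟩ hx)
          map_zero' := oval_ext (V := f ⁻¹ᵁ V.unop) fun hV => by
            show Hurwitz.ψ e (oval k (V := V.unop) (0 : Γ(oD k D, V.unop)) _) * w = 0
            rw [show oval k (V := V.unop) (0 : Γ(oD k D, V.unop)) (e ▸ hV) = 0 from rfl, map_zero, zero_mul]
          map_add' := fun s t => oval_ext (V := f ⁻¹ᵁ V.unop) fun hV => by
            show Hurwitz.ψ e (oval k (V := V.unop) (s + t) _) * w = Hurwitz.ψ e (oval k (V := V.unop) s _) * w +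
              Hurwitz.ψ e (oval k (V := V.unop) t _) * w
            rw [← add_mul, ← map_add]
            exact congrArg (fun z => Hurwitz.ψ e z * w) (oval_add (V := V.unop) s t (e ▸ hV)) }
      naturality := fun _ _ _ => rfl } fun V r s => oval_ext (V := f ⁻¹ᵁ V.unop) fun hV => by
        show Hurwitz.ψ e (oval k (V := V.unop) (r • s) _) * w = _
        refine (congrArg (fun z => Hurwitz.ψ e z * w) (oval_smul (V := V.unop) r s (e ▸ hV))).trans ?_
        dsimp only
        rw [map_mul, InvolutionCurve.ψ_germ e hV (e ▸ hV), mul_assoc]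
        rfl⟩

theorem oval_mulPush (D : Divisor k Y.functionField) (w : X.functionField) (h) {V : Y.Opens} (s : Γ(oD k D, V))
    (hV : genericPoint X ∈ f ⁻¹ᵁ V) (hV' : genericPoint Y ∈ V) :
    oval k (V := f ⁻¹ᵁ V) ((mulPush k e D w h).app V s) hV = Hurwitz.ψ e (oval k s hV') * w := rfl

theorem biprod_sec_ext {A B : Y.Modules} {V : Y.Opens} (z : Γ(A ⊞ B, V)) :
    z = (biprod.inl : A ⟶ A ⊞ B).app V ((biprod.fst : A ⊞ B ⟶ A).app V z) +
      (biprod.inr : B ⟶ A ⊞ B).app V ((biprod.snd : A ⊞ B ⟶ B).app V z) := by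
  have h := ConcreteCategory.congr_hom (congrArg (fun φ : A ⊞ B ⟶ A ⊞ B => φ.app V) (biprod.total (X := A) (Y := B))) z
  exact h.symm

include e in
/-- The direct image of the structure sheaf splits. -/
theorem nonempty_push_iso (hf : f ≫ (Y ↘ Spec (CommRingCat.of k)) = X ↘ Spec (CommRingCat.of k))
    (Δ : Divisor k Y.functionField) (y : X.functionField) :
    letI := (Hurwitz.ψ e).toAlgebra
    (∀ a b a' b' : Y.functionField, algebraMap Y.functionField X.functionField a + algebraMap Y.functionField X.functionField b * y =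
        algebraMap Y.functionField X.functionField a' + algebraMap Y.functionField X.functionField b' * y → a = a' ∧ b = b') →
    (∀ z : X.functionField, ∃ a b : Y.functionField,
        z = algebraMap Y.functionField X.functionField a + algebraMap Y.functionField X.functionField b * y) →
    (∀ (P₀ : _root_.FunFld.Place k Y.functionField) (a b : Y.functionField) (n : ℤ),
      (∀ (P : _root_.FunFld.Place k X.functionField) (e' : ℕ), _root_.FunFld.IsOverWith P P₀ e' →
          FunFld.val P (algebraMap Y.functionField X.functionField a + algebraMap Y.functionField X.functionField b * y) ≤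
            exp ((e' : ℤ) * n)) ↔
        FunFld.val P₀ a ≤ exp n ∧ FunFld.val P₀ b ≤ exp (n + Δ P₀)) →
    Nonempty ((Scheme.Modules.pushforward f).obj (Coh.structureModule X) ≅ Coh.structureModule Y ⊞ oD k Δ) := by
  letI := (Hurwitz.ψ e).toAlgebra
  intro huniq hex hsplit
  haveI : IsScalarTower k Y.functionField X.functionField :=
    .of_algebraMap_eq fun c => (Hurwitz.ψ_algebraMap k e hf c).symm
  haveI := Hurwitz.finiteDimensional k e hf
  have hA : ∀ (x : CP X) (a b : Y.functionField),
      (place k (⟨f x.1, Hurwitz.ne_genericPoint x.2⟩ : CP Y)).1 a ≤ 1 →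
      (place k (⟨f x.1, Hurwitz.ne_genericPoint x.2⟩ : CP Y)).1 b ≤
          exp (Δ (place k (⟨f x.1, Hurwitz.ne_genericPoint x.2⟩ : CP Y))) →
      (place k x).1 (Hurwitz.ψ e a + Hurwitz.ψ e b * y) ≤ exp ((0 : Divisor k X.functionField) (place k x)) := by
    intro x a b ha hb
    have hov := Hurwitz.isOverWith_place k e hf x
    have h := (hsplit _ a b 0).mpr ⟨ha.trans_eq exp_zero.symm, by rw [zero_add]; exact hb⟩ _ _ hov
    rwa [mul_zero] at h
  have h0 : ∀ (x : CP X) (g : Y.functionField),
      (place k (⟨f x.1, Hurwitz.ne_genericPoint x.2⟩ : CP Y)).1 g ≤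
          exp ((0 : Divisor k Y.functionField) (place k (⟨f x.1, Hurwitz.ne_genericPoint x.2⟩ : CP Y))) →
        (place k x).1 (Hurwitz.ψ e g * 1) ≤ exp ((0 : Divisor k X.functionField) (place k x)) := fun x g hg => by
    have := hA x g 0 (by simpa using hg) (by simp)
    simpa using this
  have h1 : ∀ (x : CP X) (g : Y.functionField),
      (place k (⟨f x.1, Hurwitz.ne_genericPoint x.2⟩ : CP Y)).1 g ≤
          exp (Δ (place k (⟨f x.1, Hurwitz.ne_genericPoint x.2⟩ : CP Y))) →
        (place k x).1 (Hurwitz.ψ e g * y) ≤ exp ((0 : Divisor k X.functionField) (place k x)) := fun x g hg => by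
    have := hA x 0 g (by simp) hg
    simpa using this
  let Φ : oD k (0 : Divisor k Y.functionField) ⊞ oD k Δ ⟶
      (Scheme.Modules.pushforward f).obj (oD k (0 : Divisor k X.functionField)) :=
    biprod.desc (mulPush k e 0 1 h0) (mulPush k e Δ y h1)
  have hval : ∀ (V : Y.Opens) (z : Γ(oD k (0 : Divisor k Y.functionField) ⊞ oD k Δ, V))
      (hV : genericPoint X ∈ f ⁻¹ᵁ V) (hV' : genericPoint Y ∈ V),
      oval k (V := f ⁻¹ᵁ V) (Φ.app V z) hV =
        Hurwitz.ψ e (oval k ((biprod.fst : _ ⟶ oD k (0 : Divisor k Y.functionField)).app V z) hV') +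
          Hurwitz.ψ e (oval k ((biprod.snd : _ ⟶ oD k Δ).app V z) hV') * y := by
    intro V z hV hV'
    have hl := ConcreteCategory.congr_hom (congrArg (fun φ => φ.app V)
      (biprod.inl_desc (mulPush k e 0 1 h0) (mulPush k e Δ y h1)))
      ((biprod.fst : _ ⟶ oD k (0 : Divisor k Y.functionField)).app V z)
    have hr := ConcreteCategory.congr_hom (congrArg (fun φ => φ.app V)
      (biprod.inr_desc (mulPush k e 0 1 h0) (mulPush k e Δ y h1)))
      ((biprod.snd : _ ⟶ oD k Δ).app V z)
    conv_lhs => rw [biprod_sec_ext z, map_add]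
    refine (oval_add (V := f ⁻¹ᵁ V) _ _ hV).trans (congrArg₂ (· + ·) ?_ ?_)
    · exact ((congrArg (fun t => oval k (V := f ⁻¹ᵁ V) t hV) hl).trans (oval_mulPush k e 0 1 h0 _ hV hV')).trans (mul_one _)
    · exact (congrArg (fun t => oval k (V := f ⁻¹ᵁ V) t hV) hr).trans (oval_mulPush k e Δ y h1 _ hV hV')
  have hbij : ∀ V : Y.Opens, Function.Bijective (Φ.app V) := by
    intro V
    constructor
    · intro z z' hzz
      have hc : ∀ hV' : genericPoint Y ∈ V,
          oval k ((biprod.fst : _ ⟶ oD k (0 : Divisor k Y.functionField)).app V z) hV' =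
            oval k ((biprod.fst : _ ⟶ oD k (0 : Divisor k Y.functionField)).app V z') hV' ∧
          oval k ((biprod.snd : _ ⟶ oD k Δ).app V z) hV' = oval k ((biprod.snd : _ ⟶ oD k Δ).app V z') hV' := by
        intro hV'
        have hV : genericPoint X ∈ f ⁻¹ᵁ V := show f (genericPoint X) ∈ V from e ▸ hV'
        exact huniq _ _ _ _ (((hval V z hV hV').symm.trans (congrArg (fun t => oval k (V := f ⁻¹ᵁ V) t hV) hzz)).trans
          (hval V z' hV hV'))
      rw [biprod_sec_ext z, biprod_sec_ext z', oval_ext fun hV' => (hc hV').1, oval_ext fun hV' => (hc hV').2]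
    · intro s
      by_cases hV' : genericPoint Y ∈ V
      swap
      · refine ⟨0, oval_ext (V := f ⁻¹ᵁ V) fun hV => (hV' ?_).elim⟩
        have hm : f (genericPoint X) ∈ V := hV
        rwa [e] at hm
      have hV : genericPoint X ∈ f ⁻¹ᵁ V := show f (genericPoint X) ∈ V from e ▸ hV'
      obtain ⟨a, b, hab⟩ := hex (oval k (V := f ⁻¹ᵁ V) s hV)
      have key : ∀ z : CP Y, z.1 ∈ V → (place k z).1 a ≤ 1 ∧ (place k z).1 b ≤ exp (Δ (place k z)) := by
        intro z hz
        have hP : ∀ (P : _root_.FunFld.Place k X.functionField) (e' : ℕ), _root_.FunFld.IsOverWith P (place k z) e' →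
            FunFld.val P (algebraMap Y.functionField X.functionField a + algebraMap Y.functionField X.functionField b * y) ≤
              exp ((e' : ℤ) * 0) := by
          intro P e' he'
          obtain ⟨x, rfl⟩ := place_surjective (k := k) P
          have hfx : (⟨f x.1, Hurwitz.ne_genericPoint x.2⟩ : CP Y) = z :=
            place_injective (k := k) (FunFld.isOverWith_unique (Hurwitz.isOverWith_place k e hf x) he').1
          have hx : x.1 ∈ f ⁻¹ᵁ V := by
            show f x.1 ∈ V
            rw [show f x.1 = z.1 from congrArg Subtype.val hfx]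
            exact hz
          rw [← hab, mul_zero]
          exact oval_bound (V := f ⁻¹ᵁ V) s x hx
        have h := (hsplit _ a b 0).mp hP
        exact ⟨h.1.trans_eq exp_zero, by simpa using h.2⟩
      refine ⟨(biprod.inl : oD k (0 : Divisor k Y.functionField) ⟶ _).app V
          (mkSec k 0 V a fun z hz => by simpa using (key z hz).1) +
        (biprod.inr : oD k Δ ⟶ _).app V (mkSec k Δ V b fun z hz => (key z hz).2), oval_ext (V := f ⁻¹ᵁ V) fun hV => ?_⟩
      have hl := fun t => ConcreteCategory.congr_hom (congrArg (fun φ => φ.app V)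
        (biprod.inl_desc (mulPush k e 0 1 h0) (mulPush k e Δ y h1))) t
      have hr := fun t => ConcreteCategory.congr_hom (congrArg (fun φ => φ.app V)
        (biprod.inr_desc (mulPush k e 0 1 h0) (mulPush k e Δ y h1))) t
      rw [map_add, hab]
      refine (oval_add (V := f ⁻¹ᵁ V) _ _ hV).trans (congrArg₂ (· + ·) ?_ ?_)
      · refine (congrArg (fun t => oval k (V := f ⁻¹ᵁ V) t hV) (hl _)).trans ((oval_mulPush k e 0 1 h0 _ hV hV').trans ?_)
        rw [oval_mkSec, mul_one]; rfl
      · refine (congrArg (fun t => oval k (V := f ⁻¹ᵁ V) t hV) (hr _)).trans ((oval_mulPush k e Δ y h1 _ hV hV').trans ?_)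
        rw [oval_mkSec]; rfl
  haveI : Mono Φ := QCoh.mono_of_app_injective _ fun V => (hbij V).1
  haveI : Epi Φ := by
    refine (OX.epi_iff _).2 fun x => ?_
    exact (ModuleCat.epi_iff_surjective _).2
      (Euler.stalkLin_bijective_of_app_bijective _ (show x ∈ (⊤ : Y.Opens) from trivial) fun T _ => hbij T).2
  haveI := isIso_of_mono_of_epi Φ
  obtain ⟨eX⟩ := nonempty_iso_oD_zero k (X := X)
  obtain ⟨eY⟩ := nonempty_iso_oD_zero k (X := Y)
  exact ⟨(Scheme.Modules.pushforward f).mapIso eX ≪≫ (asIso Φ).symm ≪≫ biprod.mapIso eY.symm (Iso.refl _)⟩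

end GrothLib.DoubleCan28
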